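import Cfsg.Agent.Lib.TC.Chain
import Cfsg.Agent.Lib.Schur.Fi23c.T1.CT0
import Cfsg.Agent.Lib.Schur.Fi23c.T1.CT1

namespace Cfsg.Agent.Lib.Schur.Fi23c.T1.Tab

open Cfsg.Agent.Lib.TC.Core Cfsg.Agent.Lib.TC.Enc Cfsg.Agent.Lib.TC.Pres Cfsg.Agent.Lib.TC.Perm Cfsg.Agent.Lib.TC.Main Cfsg.Agent.Lib.TC.Chain

set_option maxRecDepth 100000

/-- The chunks. -/
noncomputable def ctree : Tr Nat := (Tr.node Cfsg.Agent.Lib.Schur.Fi23c.T1.CT0.tree Cfsg.Agent.Lib.Schur.Fi23c.T1.CT1.tree)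

/-- The relator rotations. -/
noncomputable def rotT : Tr (List Nat) := (Tr.node (Tr.node (Tr.node (Tr.node (Tr.node (Tr.node (Tr.node (Tr.node (Tr.leaf []) (Tr.leaf [5,6,5,6,5,6])) (Tr.node (Tr.leaf [2,5,2,5]) (Tr.leaf [5,5]))) (Tr.node (Tr.node (Tr.leaf [3,1,3,1]) (Tr.leaf [7,8,7,8])) (Tr.node (Tr.leaf [3,7,3,7]) (Tr.leaf [])))) (Tr.node (Tr.node (Tr.node (Tr.leaf [6,0,6,0]) (Tr.leaf [5,9,5,9])) (Tr.node (Tr.leaf [2,9,2,9]) (Tr.leaf []))) (Tr.node (Tr.node (Tr.leaf [1,8,1,8]) (Tr.leaf [1,2,3,9,8,3,5,4,3,1,2,3,9,8,3,5,4,3,1,2,3,9,8,3,5,4,3,1,2,3,9,8,3,5,4,3,1,2,3,9,8,3,5,4,3,1,2,3,9,8,3,5,4,3,1,2,3,9,8,3,5,4,3,1,2,3,9,8,3,5,4,3,1,2,3,9,8,3,5,4,3,1,2,3,9,8,3,5,4,3])) (Tr.node (Tr.leaf [4,6,4,6]) (Tr.leaf []))))) (Tr.node (Tr.node (Tr.node (Tr.node (Tr.leaf [3,0,3,0]) (Tr.leaf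 [8,5,8,5])) (Tr.node (Tr.leaf [7,2,7,2]) (Tr.leaf []))) (Tr.node (Tr.node (Tr.leaf [1,5,1,5]) (Tr.leaf [9,8,9,8,9,8])) (Tr.node (Tr.leaf [3,9,3,9]) (Tr.leaf [])))) (Tr.node (Tr.node (Tr.node (Tr.leaf [1,2,1,2,1,2]) (Tr.leaf [8,6,8,6])) (Tr.node (Tr.leaf [6,3,6,3]) (Tr.leaf []))) (Tr.node (Tr.node (Tr.leaf [3,2,3,2,3,2]) (Tr.leaf [9,3,2,1,3,4,5,3,8,9,3,2,1,3,4,5,3,8,9,3,2,1,3,4,5,3,8,9,3,2,1,3,4,5,3,8,9,3,2,1,3,4,5,3,8,9,3,2,1,3,4,5,3,8,9,3,2,1,3,4,5,3,8,9,3,2,1,3,4,5,3,8,9,3,2,1,3,4,5,3,8,9,3,2,1,3,4,5,3,8])) (Tr.node (Tr.leaf [4,8,4,8]) (Tr.leaf [])))))) (Tr.node (Tr.node (Tr.node (Tr.node (Tr.node (Tr.leaf [0,2,0,2]) (Tr.leaf [7,5,7,5])) (Tr.node (Tr.leaf [6,2,6,2]) (Tr.leaf [9,9]))) (Tr.node (Tr.node (Tr.leaf [4,1,4,1]) (Tr.leaf [7,9,7,9])) (Tr.node (Tr.leaf [8,3,8,3,8,3])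 (Tr.leaf [])))) (Tr.node (Tr.node (Tr.node (Tr.leaf [8,0,8,0]) (Tr.leaf [7,6,7,6,7,6])) (Tr.node (Tr.leaf [5,3,5,3]) (Tr.leaf []))) (Tr.node (Tr.node (Tr.leaf [1,9,1,9]) (Tr.leaf [1,3,4,5,3,8,9,3,2,1,3,4,5,3,8,9,3,2,1,3,4,5,3,8,9,3,2,1,3,4,5,3,8,9,3,2,1,3,4,5,3,8,9,3,2,1,3,4,5,3,8,9,3,2,1,3,4,5,3,8,9,3,2,1,3,4,5,3,8,9,3,2,1,3,4,5,3,8,9,3,2,1,3,4,5,3,8,9,3,2])) (Tr.node (Tr.leaf [4,7,4,7]) (Tr.leaf []))))) (Tr.node (Tr.node (Tr.node (Tr.node (Tr.leaf [4,0,4,0]) (Tr.leaf [5,8,5,8])) (Tr.node (Tr.leaf [8,2,8,2]) (Tr.leaf []))) (Tr.node (Tr.node (Tr.leaf [1,7,1,7]) (Tr.leaf [9,8,3,5,4,3,1,2,3,9,8,3,5,4,3,1,2,3,9,8,3,5,4,3,1,2,3,9,8,3,5,4,3,1,2,3,9,8,3,5,4,3,1,2,3,9,8,3,5,4,3,1,2,3,9,8,3,5,4,3,1,2,3,9,8,3,5,4,3,1,2,3,9,8,3,5,4,3,1,2,3,9,8,3,5,4,3,1,2,3])) (Tr.node (Tr.leaf [5,4,5,4,5,4])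 (Tr.leaf [])))) (Tr.node (Tr.node (Tr.node (Tr.leaf [1,2,1,2,1,2]) (Tr.leaf [6,9,6,9])) (Tr.node (Tr.leaf [6,3,6,3]) (Tr.leaf []))) (Tr.node (Tr.node (Tr.leaf [4,2,4,2]) (Tr.leaf [1,1])) (Tr.node (Tr.leaf [9,4,9,4]) (Tr.leaf []))))))) (Tr.node (Tr.node (Tr.node (Tr.node (Tr.node (Tr.node (Tr.leaf [1,0,1,0,1,0]) (Tr.leaf [5,6,5,6,5,6])) (Tr.node (Tr.leaf [2,5,2,5]) (Tr.leaf [7,7]))) (Tr.node (Tr.node (Tr.leaf [3,1,3,1]) (Tr.leaf [7,8,7,8])) (Tr.node (Tr.leaf [3,8,3,8,3,8]) (Tr.leaf [])))) (Tr.node (Tr.node (Tr.node (Tr.leaf [7,0,7,0]) (Tr.leaf [6,7,6,7,6,7])) (Tr.node (Tr.leaf [4,3,4,3,4,3]) (Tr.leaf []))) (Tr.node (Tr.node (Tr.leaf [1,8,1,8]) (Tr.leaf [2,3,9,8,3,5,4,3,1,2,3,9,8,3,5,4,3,1,2,3,9,8,3,5,4,3,1,2,3,9,8,3,5,4,3,1,2,3,9,8,3,5,4,3,1,2,3,9,8,3,5,4,3,1,2,3,9,8,3,5,4,3,1,2,3,9,8,3,5,4,3,1,2,3,9,8,3,5,4,3,1,2,3,9,8,3,5,4,3,1]))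 (Tr.node (Tr.leaf [4,6,4,6]) (Tr.leaf []))))) (Tr.node (Tr.node (Tr.node (Tr.node (Tr.leaf [3,0,3,0]) (Tr.leaf [8,5,8,5])) (Tr.node (Tr.leaf [8,2,8,2]) (Tr.leaf []))) (Tr.node (Tr.node (Tr.leaf [6,1,6,1]) (Tr.leaf [9,8,9,8,9,8])) (Tr.node (Tr.leaf [5,4,5,4,5,4]) (Tr.leaf [])))) (Tr.node (Tr.node (Tr.node (Tr.leaf [1,2,1,2,1,2]) (Tr.leaf [6,8,6,8])) (Tr.node (Tr.leaf [6,3,6,3]) (Tr.leaf []))) (Tr.node (Tr.node (Tr.leaf [3,2,3,2,3,2]) (Tr.leaf [3,4,5,3,8,9,3,2,1,3,4,5,3,8,9,3,2,1,3,4,5,3,8,9,3,2,1,3,4,5,3,8,9,3,2,1,3,4,5,3,8,9,3,2,1,3,4,5,3,8,9,3,2,1,3,4,5,3,8,9,3,2,1,3,4,5,3,8,9,3,2,1,3,4,5,3,8,9,3,2,1,3,4,5,3,8,9,3,2,1])) (Tr.node (Tr.leaf [4,8,4,8]) (Tr.leaf [])))))) (Tr.node (Tr.node (Tr.node (Tr.node (Tr.node (Tr.leaf [0,2,0,2]) (Tr.leaf [7,5,7,5])) (Tr.node (Tr.leaf [7,2,7,2])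 (Tr.leaf []))) (Tr.node (Tr.node (Tr.leaf [1,5,1,5]) (Tr.leaf [7,9,7,9])) (Tr.node (Tr.leaf [3,9,3,9]) (Tr.leaf [])))) (Tr.node (Tr.node (Tr.node (Tr.leaf [9,0,9,0]) (Tr.leaf [8,6,8,6])) (Tr.node (Tr.leaf [5,3,5,3]) (Tr.leaf []))) (Tr.node (Tr.node (Tr.leaf [1,9,1,9]) (Tr.leaf [5,3,8,9,3,2,1,3,4,5,3,8,9,3,2,1,3,4,5,3,8,9,3,2,1,3,4,5,3,8,9,3,2,1,3,4,5,3,8,9,3,2,1,3,4,5,3,8,9,3,2,1,3,4,5,3,8,9,3,2,1,3,4,5,3,8,9,3,2,1,3,4,5,3,8,9,3,2,1,3,4,5,3,8,9,3,2,1,3,4])) (Tr.node (Tr.leaf [4,7,4,7]) (Tr.leaf []))))) (Tr.node (Tr.node (Tr.node (Tr.node (Tr.leaf [5,0,5,0]) (Tr.leaf [5,9,5,9])) (Tr.node (Tr.leaf [2,9,2,9]) (Tr.leaf []))) (Tr.node (Tr.node (Tr.leaf [1,7,1,7]) (Tr.leaf [5,4,3,1,2,3,9,8,3,5,4,3,1,2,3,9,8,3,5,4,3,1,2,3,9,8,3,5,4,3,1,2,3,9,8,3,5,4,3,1,2,3,9,8,3,5,4,3,1,2,3,9,8,3,5,4,3,1,2,3,9,8,3,5,4,3,1,2,3,9,8,3,5,4,3,1,2,3,9,8,3,5,4,3,1,2,3,9,8,3]))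 (Tr.node (Tr.leaf [5,4,5,4,5,4]) (Tr.leaf [])))) (Tr.node (Tr.node (Tr.node (Tr.leaf [3,1,3,1]) (Tr.leaf [6,9,6,9])) (Tr.node (Tr.leaf [3,7,3,7]) (Tr.leaf []))) (Tr.node (Tr.node (Tr.leaf [4,2,4,2]) (Tr.leaf [3,3])) (Tr.node (Tr.leaf [9,4,9,4]) (Tr.leaf [])))))))) (Tr.node (Tr.node (Tr.node (Tr.node (Tr.node (Tr.node (Tr.node (Tr.leaf [0,1,0,1,0,1]) (Tr.leaf [6,5,6,5,6,5])) (Tr.node (Tr.leaf [5,2,5,2]) (Tr.leaf [6,6]))) (Tr.node (Tr.node (Tr.leaf [1,3,1,3]) (Tr.leaf [8,7,8,7])) (Tr.node (Tr.leaf [8,3,8,3,8,3]) (Tr.leaf [])))) (Tr.node (Tr.node (Tr.node (Tr.leaf [0,7,0,7]) (Tr.leaf [5,9,5,9])) (Tr.node (Tr.leaf [3,4,3,4,3,4]) (Tr.leaf []))) (Tr.node (Tr.node (Tr.leaf [8,1,8,1]) (Tr.leaf [5,4,3,1,2,3,9,8,3,5,4,3,1,2,3,9,8,3,5,4,3,1,2,3,9,8,3,5,4,3,1,2,3,9,8,3,5,4,3,1,2,3,9,8,3,5,4,3,1,2,3,9,8,3,5,4,3,1,2,3,9,8,3,5,4,3,1,2,3,9,8,3,5,4,3,1,2,3,9,8,3,5,4,3,1,2,3,9,8,3]))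 (Tr.node (Tr.leaf [6,4,6,4]) (Tr.leaf []))))) (Tr.node (Tr.node (Tr.node (Tr.node (Tr.leaf [0,3,0,3]) (Tr.leaf [5,8,5,8])) (Tr.node (Tr.leaf [2,7,2,7]) (Tr.leaf []))) (Tr.node (Tr.node (Tr.leaf [1,6,1,6]) (Tr.leaf [8,9,8,9,8,9])) (Tr.node (Tr.leaf [4,5,4,5,4,5]) (Tr.leaf [])))) (Tr.node (Tr.node (Tr.node (Tr.leaf [2,1,2,1,2,1]) (Tr.leaf [6,8,6,8])) (Tr.node (Tr.leaf [3,6,3,6]) (Tr.leaf []))) (Tr.node (Tr.node (Tr.leaf [2,3,2,3,2,3]) (Tr.leaf [1,3,4,5,3,8,9,3,2,1,3,4,5,3,8,9,3,2,1,3,4,5,3,8,9,3,2,1,3,4,5,3,8,9,3,2,1,3,4,5,3,8,9,3,2,1,3,4,5,3,8,9,3,2,1,3,4,5,3,8,9,3,2,1,3,4,5,3,8,9,3,2,1,3,4,5,3,8,9,3,2,1,3,4,5,3,8,9,3,2])) (Tr.node (Tr.leaf [8,4,8,4]) (Tr.leaf [])))))) (Tr.node (Tr.node (Tr.node (Tr.node (Tr.node (Tr.leaf [2,0,2,0]) (Tr.leaf [5,7,5,7])) (Tr.node (Tr.leaf [2,6,2,6])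 (Tr.leaf []))) (Tr.node (Tr.node (Tr.leaf [1,4,1,4]) (Tr.leaf [9,7,9,7])) (Tr.node (Tr.leaf [3,8,3,8,3,8]) (Tr.leaf [])))) (Tr.node (Tr.node (Tr.node (Tr.leaf [0,9,0,9]) (Tr.leaf [6,7,6,7,6,7])) (Tr.node (Tr.leaf [3,5,3,5]) (Tr.leaf []))) (Tr.node (Tr.node (Tr.leaf [9,1,9,1]) (Tr.leaf [3,4,5,3,8,9,3,2,1,3,4,5,3,8,9,3,2,1,3,4,5,3,8,9,3,2,1,3,4,5,3,8,9,3,2,1,3,4,5,3,8,9,3,2,1,3,4,5,3,8,9,3,2,1,3,4,5,3,8,9,3,2,1,3,4,5,3,8,9,3,2,1,3,4,5,3,8,9,3,2,1,3,4,5,3,8,9,3,2,1])) (Tr.node (Tr.leaf [7,4,7,4]) (Tr.leaf []))))) (Tr.node (Tr.node (Tr.node (Tr.node (Tr.leaf [0,5,0,5]) (Tr.leaf [9,5,9,5])) (Tr.node (Tr.leaf [2,8,2,8]) (Tr.leaf []))) (Tr.node (Tr.node (Tr.leaf [7,1,7,1]) (Tr.leaf [3,5,4,3,1,2,3,9,8,3,5,4,3,1,2,3,9,8,3,5,4,3,1,2,3,9,8,3,5,4,3,1,2,3,9,8,3,5,4,3,1,2,3,9,8,3,5,4,3,1,2,3,9,8,3,5,4,3,1,2,3,9,8,3,5,4,3,1,2,3,9,8,3,5,4,3,1,2,3,9,8,3,5,4,3,1,2,3,9,8]))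 (Tr.node (Tr.leaf [4,5,4,5,4,5]) (Tr.leaf [])))) (Tr.node (Tr.node (Tr.node (Tr.leaf [2,1,2,1,2,1]) (Tr.leaf [9,6,9,6])) (Tr.node (Tr.leaf [7,3,7,3]) (Tr.leaf []))) (Tr.node (Tr.node (Tr.leaf [2,4,2,4]) (Tr.leaf [2,2])) (Tr.node (Tr.leaf [4,9,4,9]) (Tr.leaf []))))))) (Tr.node (Tr.node (Tr.node (Tr.node (Tr.node (Tr.node (Tr.leaf [1,0,1,0,1,0]) (Tr.leaf [5,6,5,6,5,6])) (Tr.node (Tr.leaf [2,6,2,6]) (Tr.leaf [8,8]))) (Tr.node (Tr.node (Tr.leaf [1,4,1,4]) (Tr.leaf [8,7,8,7])) (Tr.node (Tr.leaf [8,3,8,3,8,3]) (Tr.leaf [])))) (Tr.node (Tr.node (Tr.node (Tr.leaf [0,8,0,8]) (Tr.leaf [7,6,7,6,7,6])) (Tr.node (Tr.leaf [4,3,4,3,4,3]) (Tr.leaf []))) (Tr.node (Tr.node (Tr.leaf [1,8,1,8]) (Tr.leaf [2,1,3,4,5,3,8,9,3,2,1,3,4,5,3,8,9,3,2,1,3,4,5,3,8,9,3,2,1,3,4,5,3,8,9,3,2,1,3,4,5,3,8,9,3,2,1,3,4,5,3,8,9,3,2,1,3,4,5,3,8,9,3,2,1,3,4,5,3,8,9,3,2,1,3,4,5,3,8,9,3,2,1,3,4,5,3,8,9,3]))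 (Tr.node (Tr.leaf [7,4,7,4]) (Tr.leaf []))))) (Tr.node (Tr.node (Tr.node (Tr.node (Tr.leaf [0,4,0,4]) (Tr.leaf [5,8,5,8])) (Tr.node (Tr.leaf [2,8,2,8]) (Tr.leaf []))) (Tr.node (Tr.node (Tr.leaf [1,6,1,6]) (Tr.leaf [8,9,8,9,8,9])) (Tr.node (Tr.leaf [4,5,4,5,4,5]) (Tr.leaf [])))) (Tr.node (Tr.node (Tr.node (Tr.leaf [2,1,2,1,2,1]) (Tr.leaf [9,6,9,6])) (Tr.node (Tr.leaf [3,6,3,6]) (Tr.leaf []))) (Tr.node (Tr.node (Tr.leaf [2,4,2,4]) (Tr.leaf [0,0])) (Tr.node (Tr.leaf [4,8,4,8]) (Tr.leaf [])))))) (Tr.node (Tr.node (Tr.node (Tr.node (Tr.node (Tr.leaf [0,3,0,3]) (Tr.leaf [5,7,5,7])) (Tr.node (Tr.leaf [2,7,2,7]) (Tr.leaf []))) (Tr.node (Tr.node (Tr.leaf [5,1,5,1]) (Tr.leaf [8,9,8,9,8,9])) (Tr.node (Tr.leaf [9,3,9,3]) (Tr.leaf [])))) (Tr.node (Tr.node (Tr.node (Tr.leaf [9,0,9,0]) (Tr.leaf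 [6,8,6,8])) (Tr.node (Tr.leaf [3,5,3,5]) (Tr.leaf []))) (Tr.node (Tr.node (Tr.leaf [2,3,2,3,2,3]) (Tr.leaf [8,9,3,2,1,3,4,5,3,8,9,3,2,1,3,4,5,3,8,9,3,2,1,3,4,5,3,8,9,3,2,1,3,4,5,3,8,9,3,2,1,3,4,5,3,8,9,3,2,1,3,4,5,3,8,9,3,2,1,3,4,5,3,8,9,3,2,1,3,4,5,3,8,9,3,2,1,3,4,5,3,8,9,3,2,1,3,4,5,3])) (Tr.node (Tr.leaf [8,4,8,4]) (Tr.leaf []))))) (Tr.node (Tr.node (Tr.node (Tr.node (Tr.leaf [0,6,0,6]) (Tr.leaf [9,5,9,5])) (Tr.node (Tr.leaf [9,2,9,2]) (Tr.leaf []))) (Tr.node (Tr.node (Tr.leaf [8,1,8,1]) (Tr.leaf [4,3,1,2,3,9,8,3,5,4,3,1,2,3,9,8,3,5,4,3,1,2,3,9,8,3,5,4,3,1,2,3,9,8,3,5,4,3,1,2,3,9,8,3,5,4,3,1,2,3,9,8,3,5,4,3,1,2,3,9,8,3,5,4,3,1,2,3,9,8,3,5,4,3,1,2,3,9,8,3,5,4,3,1,2,3,9,8,3,5])) (Tr.node (Tr.leaf [6,4,6,4]) (Tr.leaf [])))) (Tr.node (Tr.node (Tr.node (Tr.leaf [1,3,1,3]) (Tr.leaf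 [8,7,8,7])) (Tr.node (Tr.leaf [7,3,7,3]) (Tr.leaf []))) (Tr.node (Tr.node (Tr.leaf [4,2,4,2]) (Tr.leaf [4,4])) (Tr.node (Tr.leaf [4,9,4,9]) (Tr.leaf [])))))))))

/-- The witnesses of the rotations. -/
noncomputable def witT : Tr (Nat × Nat × Bool) := (Tr.node (Tr.node (Tr.node (Tr.node (Tr.node (Tr.node (Tr.node (Tr.node (Tr.leaf (0,0,false)) (Tr.leaf (35,1,false))) (Tr.node (Tr.leaf (19,1,false)) (Tr.leaf (46,5,false)))) (Tr.node (Tr.node (Tr.leaf (10,2,false)) (Tr.leaf (42,1,false))) (Tr.node (Tr.leaf (27,3,false)) (Tr.leaf (0,0,false))))) (Tr.node (Tr.node (Tr.node (Tr.leaf (5,2,false)) (Tr.leaf (38,3,false))) (Tr.node (Tr.leaf (23,3,false)) (Tr.leaf (0,0,false)))) (Tr.node (Tr.node (Tr.leaf (15,1,false)) (Tr.leaf (45,60,false))) (Tr.node (Tr.leaf (31,1,false)) (Tr.leaf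 (0,0,false)))))) (Tr.node (Tr.node (Tr.node (Tr.node (Tr.leaf (2,2,false)) (Tr.leaf (37,0,false))) (Tr.node (Tr.leaf (21,2,false)) (Tr.leaf (0,0,false)))) (Tr.node (Tr.node (Tr.leaf (12,3,false)) (Tr.leaf (44,2,false))) (Tr.node (Tr.leaf (29,3,false)) (Tr.leaf (0,0,false))))) (Tr.node (Tr.node (Tr.node (Tr.leaf (9,1,false)) (Tr.leaf (40,2,false))) (Tr.node (Tr.leaf (26,0,false)) (Tr.leaf (0,0,false)))) (Tr.node (Tr.node (Tr.leaf (17,2,false)) (Tr.leaf (45,8,true))) (Tr.node (Tr.leaf (33,1,false)) (Tr.leaf (0,0,false))))))) (Tr.node (Tr.node (Tr.node (Tr.node (Tr.node (Tr.leaf (1,1,false)) (Tr.leaf (36,0,false))) (Tr.node (Tr.leaf (20,2,false)) (Tr.leaf (46,9,false)))) (Tr.node (Tr.node (Tr.leaf (11,2,false)) (Tr.leaf (43,1,false))) (Tr.node (Tr.leaf (28,4,false)) (Tr.leaf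 (0,0,false))))) (Tr.node (Tr.node (Tr.node (Tr.leaf (7,2,false)) (Tr.leaf (39,4,false))) (Tr.node (Tr.leaf (25,0,false)) (Tr.leaf (0,0,false)))) (Tr.node (Tr.node (Tr.leaf (16,1,false)) (Tr.leaf (45,2,true))) (Tr.node (Tr.leaf (32,1,false)) (Tr.leaf (0,0,false)))))) (Tr.node (Tr.node (Tr.node (Tr.node (Tr.leaf (3,2,false)) (Tr.leaf (37,2,true))) (Tr.node (Tr.leaf (22,2,false)) (Tr.leaf (0,0,false)))) (Tr.node (Tr.node (Tr.leaf (14,1,false)) (Tr.leaf (45,0,false))) (Tr.node (Tr.leaf (30,4,false)) (Tr.leaf (0,0,false))))) (Tr.node (Tr.node (Tr.node (Tr.leaf (9,5,false)) (Tr.leaf (41,1,false))) (Tr.node (Tr.leaf (26,1,true)) (Tr.leaf (0,0,false)))) (Tr.node (Tr.node (Tr.leaf (18,2,false)) (Tr.leaf (46,1,false))) (Tr.node (Tr.leaf (34,0,false)) (Tr.leaf (0,0,false)))))))) (Tr.node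 (Tr.node (Tr.node (Tr.node (Tr.node (Tr.node (Tr.leaf (0,2,false)) (Tr.leaf (35,3,false))) (Tr.node (Tr.leaf (19,3,false)) (Tr.leaf (46,7,false)))) (Tr.node (Tr.node (Tr.leaf (10,1,true)) (Tr.leaf (42,3,false))) (Tr.node (Tr.leaf (28,1,false)) (Tr.leaf (0,0,false))))) (Tr.node (Tr.node (Tr.node (Tr.leaf (6,2,false)) (Tr.leaf (39,1,false))) (Tr.node (Tr.leaf (24,2,false)) (Tr.leaf (0,0,false)))) (Tr.node (Tr.node (Tr.leaf (15,3,false)) (Tr.leaf (45,79,false))) (Tr.node (Tr.leaf (31,3,false)) (Tr.leaf (0,0,false)))))) (Tr.node (Tr.node (Tr.node (Tr.node (Tr.leaf (2,3,true)) (Tr.leaf (37,2,false))) (Tr.node (Tr.leaf (22,0,false)) (Tr.leaf (0,0,false)))) (Tr.node (Tr.node (Tr.leaf (13,2,false)) (Tr.leaf (44,4,false))) (Tr.node (Tr.leaf (30,2,false)) (Tr.leaf (0,0,false))))) (Tr.node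 (Tr.node (Tr.node (Tr.leaf (9,3,false)) (Tr.leaf (40,2,true))) (Tr.node (Tr.leaf (26,2,false)) (Tr.leaf (0,0,false)))) (Tr.node (Tr.node (Tr.leaf (17,4,false)) (Tr.leaf (45,84,true))) (Tr.node (Tr.leaf (33,3,false)) (Tr.leaf (0,0,false))))))) (Tr.node (Tr.node (Tr.node (Tr.node (Tr.node (Tr.leaf (1,3,false)) (Tr.leaf (36,2,false))) (Tr.node (Tr.leaf (21,0,false)) (Tr.leaf (0,0,false)))) (Tr.node (Tr.node (Tr.leaf (12,1,false)) (Tr.leaf (43,3,false))) (Tr.node (Tr.leaf (29,1,false)) (Tr.leaf (0,0,false))))) (Tr.node (Tr.node (Tr.node (Tr.leaf (8,2,false)) (Tr.leaf (40,0,false))) (Tr.node (Tr.leaf (25,2,false)) (Tr.leaf (0,0,false)))) (Tr.node (Tr.node (Tr.leaf (16,3,false)) (Tr.leaf (45,5,true))) (Tr.node (Tr.leaf (32,3,false)) (Tr.leaf (0,0,false)))))) (Tr.node (Tr.node (Tr.node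 (Tr.node (Tr.leaf (4,2,false)) (Tr.leaf (38,1,false))) (Tr.node (Tr.leaf (23,1,false)) (Tr.leaf (0,0,false)))) (Tr.node (Tr.node (Tr.leaf (14,3,false)) (Tr.leaf (45,3,false))) (Tr.node (Tr.leaf (30,1,true)) (Tr.leaf (0,0,false))))) (Tr.node (Tr.node (Tr.node (Tr.leaf (10,0,false)) (Tr.leaf (41,3,false))) (Tr.node (Tr.leaf (27,1,false)) (Tr.leaf (0,0,false)))) (Tr.node (Tr.node (Tr.leaf (18,1,true)) (Tr.leaf (46,3,false))) (Tr.node (Tr.leaf (34,2,false)) (Tr.leaf (0,0,false))))))))) (Tr.node (Tr.node (Tr.node (Tr.node (Tr.node (Tr.node (Tr.node (Tr.leaf (0,1,false)) (Tr.leaf (35,2,false))) (Tr.node (Tr.leaf (19,2,false)) (Tr.leaf (46,6,false)))) (Tr.node (Tr.node (Tr.leaf (10,3,false)) (Tr.leaf (42,2,false))) (Tr.node (Tr.leaf (28,0,false)) (Tr.leaf (0,0,false))))) (Tr.node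 (Tr.node (Tr.node (Tr.leaf (6,1,false)) (Tr.leaf (38,2,true))) (Tr.node (Tr.leaf (24,1,false)) (Tr.leaf (0,0,false)))) (Tr.node (Tr.node (Tr.leaf (15,2,false)) (Tr.leaf (45,66,false))) (Tr.node (Tr.leaf (31,2,false)) (Tr.leaf (0,0,false)))))) (Tr.node (Tr.node (Tr.node (Tr.node (Tr.leaf (2,3,false)) (Tr.leaf (37,1,false))) (Tr.node (Tr.leaf (21,3,false)) (Tr.leaf (0,0,false)))) (Tr.node (Tr.node (Tr.leaf (13,1,false)) (Tr.leaf (44,3,false))) (Tr.node (Tr.leaf (30,1,false)) (Tr.leaf (0,0,false))))) (Tr.node (Tr.node (Tr.node (Tr.leaf (9,2,false)) (Tr.leaf (40,3,false))) (Tr.node (Tr.leaf (26,1,false)) (Tr.leaf (0,0,false)))) (Tr.node (Tr.node (Tr.leaf (17,3,false)) (Tr.leaf (45,83,true))) (Tr.node (Tr.leaf (33,2,false)) (Tr.leaf (0,0,false))))))) (Tr.node (Tr.node (Tr.node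 (Tr.node (Tr.node (Tr.leaf (1,2,false)) (Tr.leaf (36,1,false))) (Tr.node (Tr.leaf (20,3,false)) (Tr.leaf (0,0,false)))) (Tr.node (Tr.node (Tr.leaf (11,3,false)) (Tr.leaf (43,2,false))) (Tr.node (Tr.leaf (28,5,false)) (Tr.leaf (0,0,false))))) (Tr.node (Tr.node (Tr.node (Tr.leaf (8,1,false)) (Tr.leaf (39,5,false))) (Tr.node (Tr.leaf (25,1,false)) (Tr.leaf (0,0,false)))) (Tr.node (Tr.node (Tr.leaf (16,2,false)) (Tr.leaf (45,3,true))) (Tr.node (Tr.leaf (32,2,false)) (Tr.leaf (0,0,false)))))) (Tr.node (Tr.node (Tr.node (Tr.node (Tr.leaf (4,1,false)) (Tr.leaf (38,0,false))) (Tr.node (Tr.leaf (22,3,false)) (Tr.leaf (0,0,false)))) (Tr.node (Tr.node (Tr.leaf (14,2,false)) (Tr.leaf (45,2,false))) (Tr.node (Tr.leaf (30,5,false)) (Tr.leaf (0,0,false))))) (Tr.node (Tr.node (Tr.node (Tr.leaf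 (9,1,true)) (Tr.leaf (41,2,false))) (Tr.node (Tr.leaf (27,0,false)) (Tr.leaf (0,0,false)))) (Tr.node (Tr.node (Tr.leaf (18,3,false)) (Tr.leaf (46,2,false))) (Tr.node (Tr.leaf (34,1,false)) (Tr.leaf (0,0,false)))))))) (Tr.node (Tr.node (Tr.node (Tr.node (Tr.node (Tr.node (Tr.leaf (0,4,false)) (Tr.leaf (35,5,false))) (Tr.node (Tr.leaf (20,1,false)) (Tr.leaf (46,8,false)))) (Tr.node (Tr.node (Tr.leaf (11,1,false)) (Tr.leaf (42,1,true))) (Tr.node (Tr.leaf (28,2,false)) (Tr.leaf (0,0,false))))) (Tr.node (Tr.node (Tr.node (Tr.leaf (7,1,false)) (Tr.leaf (39,2,false))) (Tr.node (Tr.leaf (24,4,false)) (Tr.leaf (0,0,false)))) (Tr.node (Tr.node (Tr.leaf (15,2,true)) (Tr.leaf (45,1,true))) (Tr.node (Tr.leaf (32,0,false)) (Tr.leaf (0,0,false)))))) (Tr.node (Tr.node (Tr.node (Tr.node (Tr.leaf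 (3,1,false)) (Tr.leaf (37,3,false))) (Tr.node (Tr.leaf (22,1,false)) (Tr.leaf (0,0,false)))) (Tr.node (Tr.node (Tr.leaf (13,3,false)) (Tr.leaf (44,5,false))) (Tr.node (Tr.leaf (30,3,false)) (Tr.leaf (0,0,false))))) (Tr.node (Tr.node (Tr.node (Tr.leaf (9,4,false)) (Tr.leaf (41,0,false))) (Tr.node (Tr.leaf (26,3,false)) (Tr.leaf (0,0,false)))) (Tr.node (Tr.node (Tr.leaf (18,1,false)) (Tr.leaf (46,0,false))) (Tr.node (Tr.leaf (33,2,true)) (Tr.leaf (0,0,false))))))) (Tr.node (Tr.node (Tr.node (Tr.node (Tr.node (Tr.leaf (2,1,false)) (Tr.leaf (36,3,false))) (Tr.node (Tr.leaf (21,1,false)) (Tr.leaf (0,0,false)))) (Tr.node (Tr.node (Tr.leaf (12,2,false)) (Tr.leaf (44,1,false))) (Tr.node (Tr.leaf (29,2,false)) (Tr.leaf (0,0,false))))) (Tr.node (Tr.node (Tr.node (Tr.leaf (8,1,true))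 (Tr.leaf (40,1,false))) (Tr.node (Tr.leaf (25,3,false)) (Tr.leaf (0,0,false)))) (Tr.node (Tr.node (Tr.leaf (17,1,false)) (Tr.leaf (45,7,true))) (Tr.node (Tr.leaf (33,0,false)) (Tr.leaf (0,0,false)))))) (Tr.node (Tr.node (Tr.node (Tr.node (Tr.leaf (5,1,false)) (Tr.leaf (38,2,false))) (Tr.node (Tr.leaf (23,2,false)) (Tr.leaf (0,0,false)))) (Tr.node (Tr.node (Tr.leaf (15,0,false)) (Tr.leaf (45,4,false))) (Tr.node (Tr.leaf (31,0,false)) (Tr.leaf (0,0,false))))) (Tr.node (Tr.node (Tr.node (Tr.leaf (10,1,false)) (Tr.leaf (42,0,false))) (Tr.node (Tr.leaf (27,2,false)) (Tr.leaf (0,0,false)))) (Tr.node (Tr.node (Tr.leaf (18,3,true)) (Tr.leaf (46,4,false))) (Tr.node (Tr.leaf (34,3,false)) (Tr.leaf (0,0,false))))))))))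

/-- The subgroup rotations. -/
noncomputable def srotT : Tr (List Nat × Nat × List Nat) := (Tr.node (Tr.node (Tr.node (Tr.node (Tr.leaf ([],0,[])) (Tr.leaf ([],9,[]))) (Tr.node (Tr.leaf ([],4,[])) (Tr.leaf ([],0,[])))) (Tr.node (Tr.node (Tr.leaf ([],2,[])) (Tr.leaf ([],0,[]))) (Tr.node (Tr.leaf ([],6,[])) (Tr.leaf ([],0,[]))))) (Tr.node (Tr.node (Tr.node (Tr.leaf ([],1,[])) (Tr.leaf ([],0,[]))) (Tr.node (Tr.leaf ([],5,[])) (Tr.leaf ([],0,[])))) (Tr.node (Tr.node (Tr.leaf ([],3,[])) (Tr.leaf ([],0,[]))) (Tr.node (Tr.leaf ([],8,[])) (Tr.leaf ([],0,[]))))))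

/-- The certificate. -/
noncomputable def cert : Cert :=
  mkCert 10 65035 461658 6 197 206 4 15 601 51 510 581 2251799813685247 2361183241434822606847 19 16 524287 65535 35 32 15 ctree.get rotT.get srotT.get

/-- The letters. -/
def ls : List Nat := [0,1,2,3,4,5,6,7,8,9]

/-- The smaller letters. -/
def ls' : List Nat := [0,1,2,3,4,5,6,8,9]

/-- The inverses. -/
def inv' (c : Nat) : Nat := [0,1,2,3,4,5,6,7,8,9].getD c 0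

/-- The relators. -/
def rels' : List (List Nat) :=
  [[1,0,1,0,1,0],
   [2,0,2,0],
   [3,0,3,0],
   [4,0,4,0],
   [5,0,5,0],
   [6,0,6,0],
   [7,0,7,0],
   [8,0,8,0],
   [9,0,9,0],
   [2,1,2,1,2,1],
   [3,1,3,1],
   [4,1,4,1],
   [5,1,5,1],
   [6,1,6,1],
   [7,1,7,1],
   [8,1,8,1],
   [9,1,9,1],
   [3,2,3,2,3,2],
   [4,2,4,2],
   [5,2,5,2],
   [6,2,6,2],
   [7,2,7,2],
   [8,2,8,2],
   [9,2,9,2],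
   [4,3,4,3,4,3],
   [5,3,5,3],
   [6,3,6,3],
   [7,3,7,3],
   [8,3,8,3,8,3],
   [9,3,9,3],
   [5,4,5,4,5,4],
   [6,4,6,4],
   [7,4,7,4],
   [8,4,8,4],
   [9,4,9,4],
   [6,5,6,5,6,5],
   [7,5,7,5],
   [8,5,8,5],
   [9,5,9,5],
   [7,6,7,6,7,6],
   [8,6,8,6],
   [9,6,9,6],
   [8,7,8,7],
   [9,7,9,7],
   [9,8,9,8,9,8],
   [9,8,3,5,4,3,1,2,3,9,8,3,5,4,3,1,2,3,9,8,3,5,4,3,1,2,3,9,8,3,5,4,3,1,2,3,9,8,3,5,4,3,1,2,3,9,8,3,5,4,3,1,2,3,9,8,3,5,4,3,1,2,3,9,8,3,5,4,3,1,2,3,9,8,3,5,4,3,1,2,3,9,8,3,5,4,3,1,2,3]]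

/-- The words of the subgroup. -/
def subs' : List (List Nat) :=
  [[0],
   [1],
   [2],
   [3],
   [4],
   [5],
   [6],
   [8],
   [9]]

end Cfsg.Agent.Lib.Schur.Fi23c.T1.Tab
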